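import Mathlib

/-!
Non-solvability criteria for permutation groups containing a regular cyclic
subgroup of prime power order.
-/

set_option autoImplicit false
open Equiv Equiv.Perm
open scoped commutatorElement

namespace CfsgLib.PermFreePair

/-- A pair which generates a non-solvable group and whose product is not a `p`-element. -/
def Good (p : ℕ) {α : Type*} (u w : Perm α) : Prop :=
  (∀ k : ℕ, (u * w) ^ p ^ k ≠ 1) ∧
    ¬ Group.IsSolvable ↥(Subgroup.closure ({u, w} : Set (Perm α)))

/-- An element which is a commutator of two of its conjugates forces non-solvability. -/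
theorem not_solvable_of_commutator {G : Type*} [Group G] (H : Subgroup G) {x v z : G}
    (hx : x ∈ H) (hv : v ∈ H) (hz : z ∈ H) (h1 : x ≠ 1)
    (he : x = ⁅v * x * v⁻¹, z * x * z⁻¹⁆) : ¬ Group.IsSolvable H := by
  intro hs
  obtain ⟨m, hm⟩ := (isSolvable_def (G := ↥H)).1 hs
  have key : ∀ k, (⟨x, hx⟩ : H) ∈ derivedSeries H k := by
    intro k
    induction k with
    | zero => simp [derivedSeries_zero]
    | succ k ih =>
      have hn : (derivedSeries H k).Normal := derivedSeries_normal H k
      have : (⟨x, hx⟩ : H) = ⁅(⟨v, hv⟩ : H) * ⟨x, hx⟩ * (⟨v, hv⟩ : H)⁻¹,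
          (⟨z, hz⟩ : H) * ⟨x, hx⟩ * (⟨z, hz⟩ : H)⁻¹⁆ := by
        apply Subtype.ext
        simpa [commutatorElement_def] using he
      rw [derivedSeries_succ, this]
      exact Subgroup.commutator_mem_commutator (hn.conj_mem _ ih _) (hn.conj_mem _ ih _)
  have := key m
  rw [hm, Subgroup.mem_bot] at this
  exact h1 (congrArg Subtype.val this)

theorem pow_addRight {q : ℕ} [NeZero q] (k : ℕ) (x : Fin q) :
    ((Equiv.addRight (1 : Fin q)) ^ k) x = x + (Fin.ofNat q k) := by
  induction k generalizing x with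
  | zero => simp
  | succ k ih =>
    rw [pow_succ', Perm.mul_apply, ih]
    apply Fin.ext
    simp [Equiv.coe_addRight, Fin.val_add, Fin.val_ofNat, add_assoc]

theorem nsmul_one_fin {q : ℕ} [NeZero q] (k : ℕ) : k • (1 : Fin q) = Fin.ofNat q k := by
  induction k with
  | zero => simp
  | succ k ih =>
    rw [succ_nsmul, ih]
    apply Fin.ext
    simp [Fin.val_add, Fin.val_ofNat]

/-- Solvable groups containing a full cycle, with no nontrivial block system modulo a divisor,
have elements with a restricted number of fixed points. -/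
theorem not_solvable_of_cycle {q p i : ℕ} [NeZero q] (hp : p.Prime) (hq : q = p ^ i)
    (H : Subgroup (Perm (Fin q))) (hc : Equiv.addRight (1 : Fin q) ∈ H)
    (hblock : ∀ d, d ∣ q → 1 < d → d < q → ∃ h ∈ H, ∃ x x' : Fin q,
      x.val % d = x'.val % d ∧ (h x).val % d ≠ (h x').val % d)
    (y : Perm (Fin q)) (hy : y ∈ H)
    (hy0 : 0 < (Finset.univ.filter fun x => y x = x).card)
    (hyp : ∀ j, (Finset.univ.filter fun x => y x = x).card ≠ p ^ j) :
    ¬ Group.IsSolvable H := by
  classical
  intro hs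
  -- H is nontrivial
  have hH : Nontrivial H := by
    refine ⟨⟨⟨y, hy⟩, 1, ?_⟩⟩
    intro h
    have hy1 : y = 1 := congrArg Subtype.val h
    apply hyp i
    subst hy1
    simp [hq]
  obtain ⟨m, hm⟩ := (isSolvable_def (G := ↥H)).1 hs
  have hex : ∃ k, derivedSeries H (k + 1) = ⊥ ∧ derivedSeries H k ≠ ⊥ := by
    have h0 : derivedSeries H 0 ≠ ⊥ := by
      rw [derivedSeries_zero]; exact top_ne_bot
    clear hH
    induction m with
    | zero => exact absurd hm h0
    | succ m ih =>
      by_cases h : derivedSeries H m = ⊥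
      · exact ih h
      · exact ⟨m, hm, h⟩
  obtain ⟨k, hk1, hk0⟩ := hex
  set N := derivedSeries H k with hN
  have hNn : N.Normal := derivedSeries_normal H k
  have hab : ∀ a ∈ N, ∀ b ∈ N, a * b = b * a := by
    intro a ha b hb
    rw [← commutatorElement_eq_one_iff_mul_comm]
    have h := Subgroup.commutator_mem_commutator ha hb
    rw [hN, ← derivedSeries_succ, hk1, Subgroup.mem_bot] at h
    exact h
  set c : H := ⟨Equiv.addRight (1 : Fin q), hc⟩ with hcdef
  let rel : Fin q → Fin q → Prop := fun x x' => ∃ a ∈ N, (a : Perm (Fin q)) x = x'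
  have rel_map : ∀ (h : H) x x', rel x x' → rel ((h : Perm (Fin q)) x) ((h : Perm (Fin q)) x') := by
    rintro h x x' ⟨a, ha, rfl⟩
    exact ⟨h * a * h⁻¹, hNn.conj_mem a ha h, by simp⟩
  have rel_trans : ∀ x x' x'', rel x x' → rel x' x'' → rel x x'' := by
    rintro x x' x'' ⟨a, ha, rfl⟩ ⟨b, hb, rfl⟩
    exact ⟨b * a, mul_mem hb ha, by simp⟩
  have rel_symm : ∀ x x', rel x x' → rel x' x := by
    rintro x x' ⟨a, ha, rfl⟩
    exact ⟨a⁻¹, inv_mem ha, by simp⟩
  have hshift : ∀ (a : ℕ) x x', rel x x' → rel (x + Fin.ofNat q a) (x' + Fin.ofNat q a) := by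
    intro a x x' h
    have := rel_map (c ^ a) x x' h
    rwa [Subgroup.coe_pow, pow_addRight, pow_addRight] at this
  -- the residues related to zero
  let D : AddSubgroup (Fin q) :=
    { carrier := {x | rel 0 x}
      zero_mem' := ⟨1, one_mem _, by simp⟩
      add_mem' := by
        intro a b ha hb
        have := hshift a.val 0 b hb
        rw [Fin.ofNat_val_eq_self, zero_add] at this
        simpa [add_comm] using rel_trans _ _ _ ha this
      neg_mem' := by
        intro a ha
        have := hshift (-a).val 0 a ha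
        rw [Fin.ofNat_val_eq_self, zero_add, add_neg_cancel] at this
        exact rel_symm _ _ this }
  have hrel : ∀ x x', rel x x' ↔ x' - x ∈ D := by
    intro x x'
    constructor
    · intro h
      have := hshift (-x).val x x' h
      rw [Fin.ofNat_val_eq_self, add_neg_cancel] at this
      show rel 0 (x' - x)
      rwa [sub_eq_add_neg]
    · intro h
      have := hshift x.val 0 (x' - x) h
      rwa [Fin.ofNat_val_eq_self, zero_add, sub_add_cancel] at this
  let f : ℤ →+ Fin q := zmultiplesHom (Fin q) (1 : Fin q)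
  obtain ⟨g, hg⟩ := Int.subgroup_cyclic (D.comap f)
  set d := g.natAbs with hd
  have hmem : ∀ z : ℤ, f z ∈ D ↔ (d : ℤ) ∣ z := by
    intro z
    rw [← AddSubgroup.mem_comap, hg, ← AddSubgroup.zmultiples_eq_closure,
      Int.mem_zmultiples_iff, hd, Int.natAbs_dvd]
  have hfval : ∀ x : Fin q, f (x.val : ℤ) = x := by
    intro x
    simp [f, nsmul_one_fin]
  have hfq : f (q : ℤ) = 0 := by
    simp [f, nsmul_one_fin]
  have hdq : d ∣ q := by
    have := (hmem q).1 (by rw [hfq]; exact D.zero_mem)
    exact_mod_cast this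
  have hiff : ∀ x x' : Fin q, rel x x' ↔ x.val % d = x'.val % d := by
    intro x x'
    rw [hrel]
    have e : x' - x = f ((x'.val : ℤ) - x.val) := by rw [map_sub, hfval, hfval]
    rw [e, hmem]
    exact (Nat.modEq_iff_dvd).symm
  have hd1 : d = 1 := by
    by_contra hne
    have hd0 : 0 < d := Nat.pos_of_dvd_of_pos hdq (NeZero.pos q)
    have hdlt : d < q := by
      refine lt_of_le_of_ne (Nat.le_of_dvd (NeZero.pos q) hdq) fun heq => ?_
      apply hk0
      rw [Subgroup.eq_bot_iff_forall]
      intro a ha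
      apply Subtype.ext
      refine Equiv.ext fun x => ?_
      have h := (hiff x ((a : Perm (Fin q)) x)).1 ⟨a, ha, rfl⟩
      rw [heq, Nat.mod_eq_of_lt x.isLt, Nat.mod_eq_of_lt ((a : Perm (Fin q)) x).isLt] at h
      simpa using Fin.ext h.symm
    obtain ⟨h, hh, x, x', hxx, hne'⟩ := hblock d hdq (by omega) hdlt
    exact hne' ((hiff _ _).1 (rel_map ⟨h, hh⟩ x x' ((hiff x x').2 hxx)))
  have htrans : ∀ x x', rel x x' := fun x x' => (hiff x x').2 (by simp [hd1, Nat.mod_one])
  obtain ⟨x0, hx0⟩ := Finset.card_pos.1 hy0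
  simp only [Finset.mem_filter, Finset.mem_univ, true_and] at hx0
  let φ : N → Fin q := fun a => ((a : H) : Perm (Fin q)) x0
  have hφ : Function.Bijective φ := by
    constructor
    · intro a b hab'
      apply Subtype.ext; apply Subtype.ext
      refine Equiv.ext fun x => ?_
      obtain ⟨e, he, rfl⟩ := htrans x0 x
      have h1 : ((a : H) : Perm (Fin q)) * (e : Perm (Fin q)) =
          (e : Perm (Fin q)) * ((a : H) : Perm (Fin q)) :=
        congrArg Subtype.val (hab _ a.2 _ he)
      have h2 : ((b : H) : Perm (Fin q)) * (e : Perm (Fin q)) =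
          (e : Perm (Fin q)) * ((b : H) : Perm (Fin q)) :=
        congrArg Subtype.val (hab _ b.2 _ he)
      rw [← Perm.mul_apply, ← Perm.mul_apply, h1, h2, Perm.mul_apply, Perm.mul_apply]
      exact congrArg _ hab'
    · intro x
      obtain ⟨e, he, rfl⟩ := htrans x0 x
      exact ⟨⟨e, he⟩, rfl⟩
  -- fixed points of y correspond to the centralizer of y in N
  set yH : H := ⟨y, hy⟩
  let C : Subgroup N := (Subgroup.centralizer ({yH} : Set H)).subgroupOf N
  have hC : ∀ a : N, a ∈ C ↔ y (φ a) = φ a := by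
    intro a
    have hconj : φ ⟨yH * a * yH⁻¹, hNn.conj_mem _ a.2 yH⟩ = y (φ a) := by
      show (y * ((a : H) : Perm (Fin q)) * y⁻¹) x0 = _
      have : y⁻¹ x0 = x0 := (Equiv.symm_apply_eq y).2 hx0.symm
      rw [Perm.mul_apply, Perm.mul_apply, this]
    rw [← hconj, hφ.1.eq_iff, Subgroup.mem_subgroupOf, Subgroup.mem_centralizer_iff, Subtype.ext_iff]
    simp [mul_inv_eq_iff_eq_mul]
  have hcard : Nat.card C = (Finset.univ.filter fun x => y x = x).card := by
    rw [← Fintype.card_subtype, ← Nat.card_eq_fintype_card]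
    refine Nat.card_congr (Equiv.ofBijective
      (fun a : C => (⟨φ a.1, (hC _).1 a.2⟩ : {x // y x = x})) ⟨?_, ?_⟩)
    · intro a b h
      exact Subtype.ext (hφ.1 (congrArg Subtype.val h))
    · rintro ⟨x, hx⟩
      obtain ⟨a, rfl⟩ := hφ.2 x
      exact ⟨⟨a, (hC a).2 hx⟩, rfl⟩
  have hNcard : Nat.card N = p ^ i := by
    rw [Nat.card_congr (Equiv.ofBijective φ hφ), Nat.card_fin, hq]
  have hdvd : Nat.card C ∣ p ^ i := hNcard ▸ Subgroup.card_subgroup_dvd_card C
  obtain ⟨j, -, hj⟩ := (Nat.dvd_prime_pow hp).1 hdvd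
  exact hyp j (hcard.symm.trans hj)

/-- A permutation of prime power order has a number of fixed points congruent to the degree. -/
theorem pow_ne_one_of_fixed {α : Type*} [Fintype α] [DecidableEq α] {p : ℕ} (hp : p.Prime)
    (y : Perm α) (hα : p ∣ Fintype.card α)
    (hf : ¬ p ∣ (Finset.univ.filter fun x => y x = x).card) (k : ℕ) : y ^ p ^ k ≠ 1 := by
  intro h
  haveI := Fact.mk hp
  have hcompl : (y.supportᶜ) = Finset.univ.filter fun x => y x = x := by
    ext x; simp
  have h2 := Equiv.Perm.card_compl_support_modEq h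
  rw [hcompl] at h2
  exact hf ((Nat.modEq_zero_iff_dvd).1 (h2.trans (Nat.modEq_zero_iff_dvd.2 hα)))

end CfsgLib.PermFreePair
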