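import Cfsg.Agent.Lib.PermFreePair.Criterion

/-!
Partners of a full cycle of prime power length.
-/

set_option autoImplicit false
open Equiv Equiv.Perm

namespace CfsgLib.PermFreePair

variable {q : ℕ} [NeZero q]

/-- The cycle `(s, s+1, …, s+a-1)`. -/
def blockCycle (q : ℕ) [NeZero q] (s a : ℕ) : Perm (Fin q) :=
  Fin.cycleIcc (Fin.ofNat q s) (Fin.ofNat q (s + a - 1))

theorem blockCycle_apply {s a : ℕ} (ha : 1 ≤ a) (hsa : s + a ≤ q) (x : Fin q) :
    (blockCycle q s a x).val =
      if x.val < s ∨ s + a ≤ x.val then x.val else if x.val + 1 = s + a then s else x.val + 1 := by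
  have hs : (Fin.ofNat q s).val = s  := by rw [Fin.val_ofNat, Nat.mod_eq_of_lt (by omega)]
  have he : (Fin.ofNat q (s + a - 1)).val = s + a - 1  := by rw [Fin.val_ofNat, Nat.mod_eq_of_lt (by omega)]
  unfold blockCycle
  by_cases h1 : x.val < s
  · rw [Fin.cycleIcc_of_lt (by rw [Fin.lt_def, hs]; exact h1), if_pos (Or.inl h1)]
  by_cases h2 : s + a ≤ x.val
  · rw [Fin.cycleIcc_of_gt (by rw [Fin.lt_def, he]; omega), if_pos (Or.inr h2)]
  rw [if_neg (by omega),
    Fin.cycleIcc_of_le_of_le (by rw [Fin.le_def, hs]; omega) (by rw [Fin.le_def, he]; omega)]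
  by_cases h3 : x.val + 1 = s + a
  · rw [if_pos (Fin.ext (by rw [he]; omega)), if_pos h3, hs]
  · rw [if_neg (by intro h; apply h3; rw [h, he]; omega), if_neg h3,
      Fin.val_add_one_of_lt' (by omega)]

theorem blockCycle_cycleType {s a : ℕ} (ha : 1 ≤ a) (hsa : s + a ≤ q) :
    (blockCycle q s a).cycleType = if a = 1 then 0 else {a} := by
  have hs : (Fin.ofNat q s).val = s  := by rw [Fin.val_ofNat, Nat.mod_eq_of_lt (by omega)]
  have he : (Fin.ofNat q (s + a - 1)).val = s + a - 1  := by rw [Fin.val_ofNat, Nat.mod_eq_of_lt (by omega)]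
  unfold blockCycle
  split_ifs with h
  · subst h
    simp only [Nat.add_sub_cancel]
    rw [Fin.cycleIcc_eq, cycleType_one]
  · have hle : Fin.ofNat q s ≤ Fin.ofNat q (s + a - 1) := by rw [Fin.le_def, hs, he]; omega
    haveI : NeZero (q - (Fin.ofNat q s).val) := NeZero.of_pos (by omega)
    rw [Fin.cycleIcc_def_le hle, cycleType_extendDomain, Fin.cycleType_cycleRange]
    · congr 1
      simp only [Fin.val_castLT, Fin.sub_val_of_le hle, hs, he]
      omega
    · intro h0
      have := congrArg Fin.val h0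
      simp only [Fin.val_castLT, Fin.sub_val_of_le hle, hs, he, Fin.val_zero] at this
      omega

/-- Consecutive cycles of prescribed lengths, starting at `s`. -/
def fwd (q : ℕ) [NeZero q] : List ℕ → ℕ → Perm (Fin q)
  | [], _ => 1
  | a :: l, s => blockCycle q s a * fwd q l (s + a)

theorem fwd_spec (l : List ℕ) : ∀ s : ℕ, (∀ a ∈ l, 1 ≤ a) → s + l.sum ≤ q →
    (fwd q l s).cycleType = (l : Multiset ℕ).filter (fun a => 2 ≤ a) ∧
    ∀ x : Fin q, (x.val < s ∨ s + l.sum ≤ x.val → fwd q l s x = x) ∧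
      (s ≤ x.val → x.val < s + l.sum →
        (fwd q l s x).val = x.val ∨
        ((fwd q l s x).val = x.val + 1 ∧ x.val + 1 < s + l.sum) ∨
        ∃ a ∈ l, 2 ≤ a ∧ (fwd q l s x).val + a = x.val + 1 ∧ s ≤ (fwd q l s x).val) := by
  induction l with
  | nil =>
    intro s _ _
    refine ⟨by simp [fwd], fun x => ⟨fun _ => by simp [fwd], fun h1 h2 => ?_⟩⟩
    simp at h2
    omega
  | cons a l ih =>
    intro s hl hs
    have ha : 1 ≤ a := hl a List.mem_cons_self
    have hsum : (a :: l).sum = a + l.sum := by simp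
    rw [hsum] at hs
    obtain ⟨hct, hval⟩ := ih (s + a) (fun b hb => hl b (List.mem_cons_of_mem _ hb)) (by omega)
    have hb := fun x => blockCycle_apply (q := q) ha (show s + a ≤ q by omega) x
    have hdis : Disjoint (blockCycle q s a) (fwd q l (s + a)) := by
      intro x
      by_cases h : x.val < s + a
      · exact Or.inr ((hval x).1 (Or.inl h))
      · exact Or.inl (Fin.ext (by rw [hb, if_pos (Or.inr (by omega))]))
    refine ⟨?_, fun x => ?_⟩
    · rw [fwd, hdis.cycleType_mul, hct, blockCycle_cycleType ha (by omega), ← Multiset.cons_coe,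
        Multiset.filter_cons]
      by_cases h : a = 1
      · simp [h]
      · rw [if_neg h, if_pos (by omega)]
    rw [hsum]
    simp only [fwd, Perm.mul_apply]
    by_cases h : x.val < s + a
    · rw [(hval x).1 (Or.inl h)]
      refine ⟨fun hx => Fin.ext ?_, fun hx1 _ => ?_⟩
      · rw [hb, if_pos (Or.inl (by omega))]
      · rw [hb, if_neg (by omega)]
        by_cases h3 : x.val + 1 = s + a
        · rw [if_pos h3]
          by_cases h1 : a = 1
          · left; omega
          · exact Or.inr (Or.inr ⟨a, List.mem_cons_self, by omega, by omega, le_rfl⟩)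
        · rw [if_neg h3]
          exact Or.inr (Or.inl ⟨rfl, by omega⟩)
    · refine ⟨fun hx => ?_, fun _ hx2 => ?_⟩
      · rw [(hval x).1 (Or.inr (by omega))]
        exact Fin.ext (by rw [hb, if_pos (Or.inr (by omega))])
      · have hge : s + a ≤ (fwd q l (s + a) x).val := by
          rcases (hval x).2 (by omega) (by omega) with h' | ⟨h', -⟩ | ⟨b, -, -, -, h'⟩ <;> omega
        rw [hb, if_pos (Or.inr hge)]
        rcases (hval x).2 (by omega) (by omega) with h' | ⟨h', h''⟩ | ⟨b, hb1, hb2, hb3, hb4⟩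
        · exact Or.inl h'
        · exact Or.inr (Or.inl ⟨h', by omega⟩)
        · exact Or.inr (Or.inr ⟨b, List.mem_cons_of_mem _ hb1, hb2, hb3, by omega⟩)

theorem inv_mem_closure_pair {G : Type*} [Group G] (a b : G) :
    a ∈ Subgroup.closure ({a, b} : Set G) ∧ b ∈ Subgroup.closure ({a, b} : Set G) :=
  ⟨Subgroup.subset_closure (by simp), Subgroup.subset_closure (by simp)⟩

/-- Partner of the full cycle with several cycles. -/
theorem exists_partner_parts {p i m b : ℕ} (hp : p.Prime) (hp3 : 3 ≤ p) (hq : q = p ^ i)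
    (hb : b = p ^ m) (hb3 : 3 ≤ b) (hbq : b < q) (l : List ℕ)
    (hl : ∀ a ∈ l, ∃ j, a = p ^ j ∧ a ≤ b) (hsum : b + l.sum = q) :
    ∃ w0 : Perm (Fin q),
      w0.cycleType = ((b :: l : List ℕ) : Multiset ℕ).filter (fun a => 2 ≤ a) ∧
      Good p (Equiv.addRight (1 : Fin q)) w0 := by
  classical
  have hl1 : ∀ a ∈ l, 1 ≤ a := fun a ha => by
    obtain ⟨j, rfl, -⟩ := hl a ha
    exact Nat.one_le_pow _ _ hp.pos
  have hl2 : ∀ a ∈ l, a ≠ 2 := fun a ha => by
    obtain ⟨j, rfl, -⟩ := hl a ha
    rcases j with _ | j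
    · simp
    · have : p ≤ p ^ (j + 1) := Nat.le_self_pow (by omega) p
      omega
  obtain ⟨hct, hval⟩ := fwd_spec (q := q) l b hl1 (by omega)
  have hblk := fun x => blockCycle_apply (q := q) (s := 0) (show 1 ≤ b by omega) (by omega) x
  set B := blockCycle q 0 b with hB
  have hinv : ∀ x : Fin q, b ≤ x.val → B⁻¹ x = x := by
    intro x hx
    apply (Equiv.symm_apply_eq B).2
    exact Fin.ext (by rw [hblk, if_pos (Or.inr (by omega))])
  have hinvlt : ∀ x : Fin q, x.val < b →
      (B⁻¹ x).val = if x.val = 0 then b - 1 else x.val - 1 := by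
    intro x hx
    have key : ∀ z : Fin q, B z = x → (B⁻¹ x) = z := fun z hz => by rw [← hz]; simp
    split_ifs with h0
    · rw [key ⟨b - 1, by omega⟩ (Fin.ext (by
        rw [hblk, if_neg (by simp; omega), if_pos (by simp; omega)]; omega))]
    · rw [key ⟨x.val - 1, by omega⟩ (Fin.ext (by
        rw [hblk, if_neg (by simp; omega), if_neg (by simp; omega)]; simp; omega))]
  have hdis : Disjoint B⁻¹ (fwd q l b) := by
    intro x
    by_cases h : x.val < b
    · exact Or.inr ((hval x).1 (Or.inl h))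
    · exact Or.inl (hinv x (by omega))
  set w0 := B⁻¹ * fwd q l b with hw0
  -- the values of w0
  have hw_lt : ∀ x : Fin q, x.val < b → (w0 x).val = if x.val = 0 then b - 1 else x.val - 1 := by
    intro x hx
    rw [hw0, Perm.mul_apply, (hval x).1 (Or.inl hx), hinvlt x hx]
  have hw_ge : ∀ x : Fin q, b ≤ x.val →
      ((w0 x).val = x.val ∨ ((w0 x).val = x.val + 1 ∧ x.val + 1 < q) ∨
        ∃ a ∈ l, 2 ≤ a ∧ (w0 x).val + a = x.val + 1 ∧ b ≤ (w0 x).val) := by
    intro x hx
    have hx' := (hval x).2 hx (by omega)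
    have hge : b ≤ (fwd q l b x).val := by
      rcases hx' with h | ⟨h, -⟩ | ⟨a, -, -, -, h⟩ <;> omega
    rw [hw0, Perm.mul_apply, hinv _ hge]
    rwa [hsum] at hx'
  refine ⟨w0, ?_, ?_⟩
  · rw [hw0, hdis.cycleType_mul, hct, cycleType_inv, hB, blockCycle_cycleType (by omega) (by omega),
      ← Multiset.cons_coe, Multiset.filter_cons, if_neg (by omega), if_pos (by omega)]
  set c : Perm (Fin q) := Equiv.addRight (1 : Fin q) with hc
  have hcval : ∀ z : Fin q, (c z).val = if z.val + 1 = q then 0 else z.val + 1 := by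
    intro z
    rw [hc, Equiv.coe_addRight]
    split_ifs with h
    · rw [Fin.val_add, Fin.val_one', Nat.add_mod_mod, h, Nat.mod_self]
    · exact Fin.val_add_one_of_lt' (by omega)
  have hfix : ∀ x : Fin q, (c * w0) x = x ↔ 1 ≤ x.val ∧ x.val < b := by
    intro x
    rw [Perm.mul_apply, Fin.ext_iff, hcval]
    by_cases hx : x.val < b
    · rw [hw_lt x hx]
      split_ifs <;> omega
    · constructor
      · intro h
        exfalso
        rcases hw_ge x (by omega) with h' | ⟨h', h''⟩ | ⟨a, ha, ha2, ha3, ha4⟩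
        · rw [h'] at h; split_ifs at h <;> omega
        · rw [h'] at h; split_ifs at h <;> omega
        · have := hl2 a ha
          split_ifs at h <;> omega
      · intro h; omega
  have hcard : (Finset.univ.filter fun x => (c * w0) x = x).card = b - 1 := by
    rw [← Finset.card_map Fin.valEmbedding]
    have e : (Finset.univ.filter fun x => (c * w0) x = x).map Fin.valEmbedding = Finset.Ico 1 b := by
      ext z
      simp only [Finset.mem_map, Finset.mem_filter, Finset.mem_univ, true_and, hfix,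
        Fin.valEmbedding_apply, Finset.mem_Ico]
      exact ⟨fun ⟨x, hx, hxz⟩ => hxz ▸ hx, fun hz => ⟨⟨z, by omega⟩, hz, rfl⟩⟩
    rw [e, Nat.card_Ico]
  have hi : i ≠ 0 := by rintro rfl; simp at hq; omega
  have hm : m ≠ 0 := by rintro rfl; simp at hb; omega
  have hodd : Odd p := hp.odd_of_ne_two (by omega)
  refine ⟨fun k => pow_ne_one_of_fixed hp _ ?_ ?_ k, ?_⟩
  · rw [Fintype.card_fin, hq]; exact dvd_pow_self p hi
  · rw [hcard]
    intro h
    have h2 : p ∣ b := hb ▸ dvd_pow_self p hm
    have := Nat.dvd_sub h2 h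
    rw [show b - (b - 1) = 1 by omega] at this
    exact hp.ne_one (Nat.dvd_one.1 this)
  obtain ⟨hcH, hwH⟩ := inv_mem_closure_pair c w0
  refine not_solvable_of_cycle hp hq _ hcH ?_ (c * w0) (mul_mem hcH hwH) (by omega) ?_
  · intro d hdq hd1 hdlt
    obtain ⟨j, -, rfl⟩ := (Nat.dvd_prime_pow hp).1 (hq ▸ hdq)
    have hd2 : p ^ j ≠ 2 := by
      intro h
      have : Odd (p ^ j) := hodd.pow
      rw [h] at this
      exact absurd this (by decide)
    refine ⟨w0, hwH, ?_⟩
    rcases le_or_gt j m with hjm | hjm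
    · obtain ⟨t, ht⟩ : p ^ j ∣ b := hb ▸ pow_dvd_pow p hjm
      have h0 : (b - 1) % (p ^ j) = p ^ j - 1 := by
        have hu : b ≡ 0 [MOD p ^ j] := Nat.modEq_zero_iff_dvd.2 ⟨t, ht⟩
        have ht1 : 1 ≤ t := by
          rcases t with _ | t
          · simp at ht; omega
          · omega
        obtain ⟨t', rfl⟩ : ∃ t', t = t' + 1 := ⟨t - 1, by omega⟩
        rw [ht, Nat.mul_succ, Nat.add_sub_assoc (by omega), Nat.mul_add_mod,
          Nat.mod_eq_of_lt (by omega)]
      refine ⟨⟨0, by omega⟩, ⟨b, hbq⟩, by simp [ht], ?_⟩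
      rw [hw_lt ⟨0, by omega⟩ (by simp; omega)]
      simp only [↓reduceIte, h0]
      rcases hw_ge ⟨b, hbq⟩ le_rfl with h | ⟨h, -⟩ | ⟨a, ha, ha2, ha3, ha4⟩
      · rw [h]; simp [ht]; omega
      · rw [h]
        simp [ht, Nat.mod_eq_of_lt hd1]
        omega
      · simp only at ha3; omega
    · have hbd : b < p ^ j := hb ▸ Nat.pow_lt_pow_right hp.one_lt hjm
      have h2d : 2 * p ^ j ≤ q := by
        obtain ⟨t, ht⟩ := hdq
        rw [ht]
        rcases t with _ | _ | t
        · simp at ht; omega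
        · simp at ht; omega
        · nlinarith
      refine ⟨⟨1, by omega⟩, ⟨p ^ j + 1, by omega⟩, by simp [Nat.mod_eq_of_lt hd1], ?_⟩
      rw [hw_lt ⟨1, by omega⟩ (by simp; omega)]
      simp only [one_ne_zero, ↓reduceIte, Nat.sub_self, Nat.zero_mod]
      rcases hw_ge ⟨p ^ j + 1, by omega⟩ (by simp; omega) with h | ⟨h, -⟩ | ⟨a, ha, ha2, ha3, ha4⟩
      · rw [h]; simp [Nat.mod_eq_of_lt hd1]
      · rw [h]
        simp only [show p ^ j + 1 + 1 = p ^ j + 2 by omega, Nat.add_mod_left]
        rw [Nat.mod_eq_of_lt (by omega)]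
        omega
      · obtain ⟨j', -, hab⟩ := hl a ha
        have := hl2 a ha
        simp only at ha3
        rw [Nat.mod_eq_of_lt (by omega)]
        omega
  · intro j
    rw [hcard]
    intro h
    have h1 : Odd (p ^ j) := hodd.pow
    have h2 : Odd b := hb ▸ hodd.pow
    rw [← h] at h1
    obtain ⟨r, hr⟩ := h1
    obtain ⟨r', hr'⟩ := h2
    omega

/-- Embedding of the permutations of five points. -/
noncomputable def emb5 (h : 5 ≤ q) : Perm (Fin 5) →* Perm (Fin q) :=
  extendDomainHom (Fin.castLEEmb h).toEquivRange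

theorem emb5_apply (h : 5 ≤ q) (s : Perm (Fin 5)) (x : Fin q) :
    (emb5 h s x).val = if hx : x.val < 5 then (s ⟨x.val, hx⟩).val else x.val := by
  split_ifs with hx
  · have e : x = Fin.castLEEmb h ⟨x.val, hx⟩ := by ext; simp
    conv_lhs => rw [e]
    show (s.extendDomain (Fin.castLEEmb h).toEquivRange (Fin.castLEEmb h ⟨x.val, hx⟩)).val = _
    rw [show Fin.castLEEmb h ⟨x.val, hx⟩ =
        ((Fin.castLEEmb h).toEquivRange ⟨x.val, hx⟩ : Fin q) from rfl, extendDomain_apply_image]
    rfl
  · show (s.extendDomain (Fin.castLEEmb h).toEquivRange x).val = _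
    rw [extendDomain_apply_not_subtype]
    rintro ⟨y, hy⟩
    have := congrArg Fin.val hy
    simp at this
    omega

theorem emb5_conj (h : 5 ≤ q) (s : Perm (Fin 5)) (hs : s 4 = 4) :
    (Equiv.addRight (1 : Fin q)) * emb5 h s * (Equiv.addRight (1 : Fin q))⁻¹ =
      emb5 h (finRotate 5 * s * (finRotate 5)⁻¹) := by
  set c : Perm (Fin q) := Equiv.addRight (1 : Fin q) with hc
  have hcval : ∀ z : Fin q, (c z).val = if z.val + 1 = q then 0 else z.val + 1 := by
    intro z
    rw [hc, Equiv.coe_addRight]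
    split_ifs with h'
    · rw [Fin.val_add, Fin.val_one', Nat.add_mod_mod, h', Nat.mod_self]
    · exact Fin.val_add_one_of_lt' (by omega)
  rw [mul_inv_eq_iff_eq_mul]
  refine Equiv.ext fun x => Fin.ext ?_
  rw [Perm.mul_apply, Perm.mul_apply, hcval, emb5_apply, emb5_apply, hcval]
  have hsne : ∀ a : Fin 5, a ≠ 4 → s a ≠ 4 := fun a ha h' => ha (s.injective (h'.trans hs.symm))
  by_cases hxq : x.val + 1 = q
  · -- the last point
    simp only [hxq, if_true]
    have h0 : (finRotate 5 * s * (finRotate 5)⁻¹) ⟨0, by omega⟩ = 0 := by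
      have e : (finRotate 5)⁻¹ (0 : Fin 5) = 4 := by decide
      show (finRotate 5 * s * (finRotate 5)⁻¹) (0 : Fin 5) = 0
      rw [Perm.mul_apply, Perm.mul_apply, e, hs]; decide
    simp only [dif_pos (show (0 : ℕ) < 5 by omega), h0]
    split_ifs with h1 h2 h3
    · simp
    · exfalso; apply h2
      have hx4 : (⟨x.val, h1⟩ : Fin 5) = 4 := Fin.ext (by simp; omega)
      rw [hx4, hs]
      simp; omega
    · simp
  · simp only [hxq, if_false]
    by_cases h4 : x.val < 4
    · rw [dif_pos (by omega), dif_pos (by omega)]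
      have e : (finRotate 5)⁻¹ ⟨x.val + 1, by omega⟩ = ⟨x.val, by omega⟩ := by
        apply (Equiv.symm_apply_eq _).2
        apply Fin.ext
        rw [coe_finRotate_of_ne_last]
        intro h'; have := congrArg Fin.val h'; simp at this; omega
      rw [Perm.mul_apply, Perm.mul_apply, e]
      have hne : (⟨x.val, by omega⟩ : Fin 5) ≠ 4 := by
        intro h'; have := congrArg Fin.val h'; simp at this; omega
      have hne' := hsne _ hne
      rw [coe_finRotate_of_ne_last (fun h' => hne' (h'.trans rfl))]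
      have hlt : (s ⟨x.val, by omega⟩).val < 4 := by
        rcases lt_or_eq_of_le (Nat.lt_succ_iff.1 (s ⟨x.val, by omega⟩).isLt) with h' | h'
        · exact h'
        · exact absurd (Fin.ext h') hne'
      rw [if_neg (by omega)]
    · rw [dif_neg (show ¬ x.val + 1 < 5 by omega)]
      by_cases h5 : x.val < 5
      · rw [dif_pos h5, show (⟨x.val, h5⟩ : Fin 5) = 4 from Fin.ext (by simp; omega), hs]
        show (if (4 : ℕ) + 1 = q then 0 else (4 : ℕ) + 1) = x.val + 1
        rw [if_neg (by omega)]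
        omega
      · rw [dif_neg h5, if_neg hxq]

/-- The commutator of the cycle with a small permutation. -/
def comm5 (s : Perm (Fin 5)) : Perm (Fin 5) := finRotate 5 * s * (finRotate 5)⁻¹ * s⁻¹

omit [NeZero q] in
theorem card_fixed_emb5 (h : 5 ≤ q) (s : Perm (Fin 5)) :
    (Finset.univ.filter fun x => emb5 h s x = x).card = q - s.support.card := by
  classical
  have e : (Finset.univ.filter fun x => emb5 h s x = x) = (emb5 h s).supportᶜ := by
    ext x; simp
  rw [e, Finset.card_compl, Fintype.card_fin]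
  congr 1
  exact card_support_extend_domain _

/-- Partner of the full cycle: a twisted inverse of the cycle. -/
theorem exists_partner_cycle {p i : ℕ} (hp : p.Prime) (hp3 : 3 ≤ p) (hq : q = p ^ i) (hq5 : 5 ≤ q)
    (ε : ℤˣ) : ∃ σ : Perm (Fin q), Perm.sign σ = ε ∧
      Good p (Equiv.addRight (1 : Fin q)) (σ * (Equiv.addRight (1 : Fin q))⁻¹ * σ⁻¹) := by
  classical
  set c : Perm (Fin q) := Equiv.addRight (1 : Fin q) with hc
  suffices H : ∀ s : Perm (Fin 5), s 4 = 4 →
      (∃ x0 : Fin 5, x0.val ≤ 2 ∧ comm5 s x0 ≠ x0 ∧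
        (comm5 s x0).val ≤ x0.val + 2 ∧ x0.val ≤ (comm5 s x0).val + 2) →
      (comm5 s).support.card < q → ¬ p ∣ q - (comm5 s).support.card →
      (∀ j, q - (comm5 s).support.card ≠ p ^ j) →
      Good p c (emb5 hq5 s * c⁻¹ * (emb5 hq5 s)⁻¹) ∧ Perm.sign (emb5 hq5 s) = Perm.sign s by
    have hi : i ≠ 0 := by rintro rfl; simp at hq; omega
    have hpq : p ∣ q := hq ▸ dvd_pow_self p hi
    have nd : ∀ k, k < q → ¬ p ∣ k → ¬ p ∣ q - k := fun k hk hnk h => hnk (by
      have := Nat.dvd_sub hpq h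
      rwa [Nat.sub_sub_self hk.le] at this)
    have np : ∀ k, k + 2 ≤ q → ¬ p ∣ k → ∀ j, q - k ≠ p ^ j := fun k hk hnk j h => by
      rcases j with _ | j
      · simp at h; omega
      · exact nd k (by omega) hnk (h ▸ dvd_pow_self p (by omega))
    have ns : ∀ k : ℕ, 1 < k → k < p → ¬ p ∣ k := fun k h1 h2 h => by
      have := Nat.le_of_dvd (by omega) h; omega
    rcases eq_or_lt_of_le hp3 with h3 | h3
    · have hq9 : 9 ≤ q := by
        subst h3
        rcases i with _ | _ | i
        · simp at hq; omega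
        · simp at hq; omega
        · rw [hq, pow_succ, pow_succ]
          have : 1 ≤ 3 ^ i := Nat.one_le_pow _ _ (by norm_num)
          omega
      subst h3
      rcases Int.units_eq_one_or ε with rfl | rfl
      · have e : (comm5 (swap 0 1 * swap 2 3)).support.card = 5 := by decide
        obtain ⟨g1, g2⟩ := H (swap 0 1 * swap 2 3) (by decide) (by decide) (by omega)
          (by rw [e]; exact nd 5 (by omega) (by decide)) (by rw [e]; exact np 5 (by omega) (by decide))
        exact ⟨_, g2.trans (by decide), g1⟩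
      · have e : (comm5 (swap 0 2)).support.card = 4 := by decide
        obtain ⟨g1, g2⟩ := H (swap 0 2) (by decide) (by decide) (by omega)
          (by rw [e]; exact nd 4 (by omega) (by decide)) (by rw [e]; exact np 4 (by omega) (by decide))
        exact ⟨_, g2.trans (by decide), g1⟩
    · have hne : ¬ p ∣ 3 := ns 3 (by norm_num) (by omega)
      rcases Int.units_eq_one_or ε with rfl | rfl
      · have e : (comm5 (swap 0 1 * swap 1 2)).support.card = 3 := by decide
        obtain ⟨g1, g2⟩ := H (swap 0 1 * swap 1 2) (by decide) (by decide) (by omega)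
          (by rw [e]; exact nd 3 (by omega) hne) (by rw [e]; exact np 3 (by omega) hne)
        exact ⟨_, g2.trans (by decide), g1⟩
      · have e : (comm5 (swap 0 1)).support.card = 3 := by decide
        obtain ⟨g1, g2⟩ := H (swap 0 1) (by decide) (by decide) (by omega)
          (by rw [e]; exact nd 3 (by omega) hne) (by rw [e]; exact np 3 (by omega) hne)
        exact ⟨_, g2.trans (by decide), g1⟩
  intro s hs hx0 hlt hndvd hnpow
  refine ⟨?_, sign_extendDomain _ _⟩
  have hy : c * (emb5 hq5 s * c⁻¹ * (emb5 hq5 s)⁻¹) = emb5 hq5 (comm5 s) := by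
    rw [comm5, map_mul, ← emb5_conj hq5 s hs, map_inv, ← hc]
    group
  refine ⟨fun k => ?_, ?_⟩
  · rw [hy]
    refine pow_ne_one_of_fixed hp _ ?_ ?_ k
    · rw [Fintype.card_fin, hq]
      exact dvd_pow_self p (by rintro rfl; simp at hq; omega)
    · rwa [card_fixed_emb5]
  obtain ⟨hcH, hwH⟩ := inv_mem_closure_pair c (emb5 hq5 s * c⁻¹ * (emb5 hq5 s)⁻¹)
  refine not_solvable_of_cycle hp hq _ hcH ?_ (emb5 hq5 (comm5 s)) (hy ▸ mul_mem hcH hwH)
    (by rw [card_fixed_emb5]; omega) (fun j => by rw [card_fixed_emb5]; exact hnpow j)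
  intro d hdq hd1 hdlt
  obtain ⟨x0, hx2, hne, hle1, hle2⟩ := hx0
  have hodd : Odd d := Odd.of_dvd_nat (hq ▸ (hp.odd_of_ne_two (by omega)).pow) hdq
  have hd3 : 3 ≤ d := by
    obtain ⟨r, hr⟩ := hodd; omega
  obtain ⟨t, ht⟩ := hdq
  have ht3 : 3 ≤ t := by
    have : Odd t := Odd.of_dvd_nat (hq ▸ (hp.odd_of_ne_two (by omega)).pow) ⟨d, by rw [ht, mul_comm]⟩
    obtain ⟨r, hr⟩ := this
    rcases r with _ | r
    · rw [hr] at ht; omega
    · omega
  have h3d : 3 * d ≤ q := by rw [ht]; nlinarith
  refine ⟨_, hy ▸ mul_mem hcH hwH, ⟨x0.val, by omega⟩, ⟨x0.val + 2 * d, by omega⟩, ?_, ?_⟩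
  · simp
  · rw [emb5_apply, emb5_apply, dif_pos x0.isLt, dif_neg (by simp; omega)]
    simp only [Fin.eta, Nat.add_mul_mod_self_right]
    intro h
    apply hne
    apply Fin.ext
    rcases le_total (comm5 s x0).val x0.val with h' | h'
    · have := Nat.eq_zero_of_dvd_of_lt ((Nat.modEq_iff_dvd' h').1 h) (by omega)
      omega
    · have := Nat.eq_zero_of_dvd_of_lt ((Nat.modEq_iff_dvd' h').1 h.symm) (by omega)
      omega

end CfsgLib.PermFreePair
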