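import Cfsg.Agent.Lib.PermFreePair.Criterion

/-!
Explicit pairs of elements of order three on at most six points.
-/

set_option autoImplicit false
open Equiv Equiv.Perm
open scoped commutatorElement

namespace CfsgLib.PermFreePair

theorem good_of_witness {m : ℕ} (hm : m ≤ 6) {a b : Perm (Fin m)} (h9 : (a * b) ^ 9 ≠ 1)
    {x v z : Perm (Fin m)} (hx : x ∈ Subgroup.closure ({a, b} : Set (Perm (Fin m))))
    (hv : v ∈ Subgroup.closure ({a, b} : Set (Perm (Fin m))))
    (hz : z ∈ Subgroup.closure ({a, b} : Set (Perm (Fin m)))) (h1 : x ≠ 1)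
    (he : x = ⁅v * x * v⁻¹, z * x * z⁻¹⁆) : Good 3 a b := by
  refine ⟨fun k hk => h9 ?_, not_solvable_of_commutator _ hx hv hz h1 he⟩
  obtain ⟨j, -, hj⟩ := (Nat.dvd_prime_pow Nat.prime_three).1 (orderOf_dvd_of_pow_eq_one hk)
  have h2 : 3 ^ j ∣ Nat.factorial 6 := by
    rw [← hj]
    refine (orderOf_dvd_card).trans ?_
    rw [Fintype.card_perm, Fintype.card_fin]
    exact Nat.factorial_dvd_factorial hm
  have hj2 : j ≤ 2 := by
    by_contra hc
    have h27 : 3 ^ 3 ∣ Nat.factorial 6 := (pow_dvd_pow 3 (by omega)).trans h2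
    norm_num [Nat.factorial] at h27
  exact orderOf_dvd_iff_pow_eq_one.1 (hj ▸ (pow_dvd_pow 3 hj2 : 3 ^ j ∣ 3 ^ 2))

theorem good_five : ∃ a b : Perm (Fin 5),
    a.cycleType = {3} ∧ b.cycleType = {3} ∧ Good 3 a b := by
  refine ⟨swap 0 1 * swap 1 2, swap 2 3 * swap 3 4, by decide +kernel, by decide +kernel, ?_⟩
  obtain ⟨ha, hb⟩ : (swap 0 1 * swap 1 2 : Perm (Fin 5)) ∈ Subgroup.closure
      ({swap 0 1 * swap 1 2, swap 2 3 * swap 3 4} : Set (Perm (Fin 5))) ∧
      (swap 2 3 * swap 3 4 : Perm (Fin 5)) ∈ Subgroup.closure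
      ({swap 0 1 * swap 1 2, swap 2 3 * swap 3 4} : Set (Perm (Fin 5))) :=
    ⟨Subgroup.subset_closure (by simp), Subgroup.subset_closure (by simp)⟩
  exact good_of_witness (by norm_num) (by decide +kernel) (mul_mem ha hb) (mul_mem hb ha) hb
    (by decide +kernel) (by decide +kernel)

theorem good_six_aux {a b : Perm (Fin 6)} (h9 : (a * b) ^ 9 ≠ 1)
    (h : (a * b ≠ 1 ∧ a * b = ⁅(b * a) * (a * b) * (b * a)⁻¹, b * (a * b) * b⁻¹⁆) ∨
      (a * b * a * a ≠ 1 ∧
        a * b * a * a = ⁅b * (a * b * a * a) * b⁻¹, (b * a) * (a * b * a * a) * (b * a)⁻¹⁆)) :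
    Good 3 a b := by
  have ha : a ∈ Subgroup.closure ({a, b} : Set (Perm (Fin 6))) := Subgroup.subset_closure (by simp)
  have hb : b ∈ Subgroup.closure ({a, b} : Set (Perm (Fin 6))) := Subgroup.subset_closure (by simp)
  rcases h with ⟨h1, he⟩ | ⟨h1, he⟩
  · exact good_of_witness le_rfl h9 (mul_mem ha hb) (mul_mem hb ha) hb h1 he
  · exact good_of_witness le_rfl h9 (mul_mem (mul_mem (mul_mem ha hb) ha) ha) hb (mul_mem hb ha) h1 he

theorem good_six (s t : Multiset ℕ) (hs : s = {3} ∨ s = {3, 3}) (ht : t = {3} ∨ t = {3, 3}) :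
    ∃ a b : Perm (Fin 6), a.cycleType = s ∧ b.cycleType = t ∧ Good 3 a b := by
  rcases hs with rfl | rfl <;> rcases ht with rfl | rfl
  · exact ⟨swap 0 1 * swap 1 2, swap 2 3 * swap 3 4, by decide +kernel, by decide +kernel,
      good_six_aux (by decide +kernel) (Or.inl (by decide +kernel))⟩
  · exact ⟨swap 0 1 * swap 1 2, swap 0 1 * swap 1 3 * swap 2 4 * swap 4 5, by decide +kernel, by decide +kernel,
      good_six_aux (by decide +kernel) (Or.inr (by decide +kernel))⟩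
  · exact ⟨swap 0 1 * swap 1 2 * swap 3 4 * swap 4 5, swap 2 3 * swap 3 4, by decide +kernel, by decide +kernel,
      good_six_aux (by decide +kernel) (Or.inr (by decide +kernel))⟩
  · exact ⟨swap 0 1 * swap 1 2 * swap 3 4 * swap 4 5, swap 0 1 * swap 1 3 * swap 2 5 * swap 5 4,
      by decide +kernel, by decide +kernel, good_six_aux (by decide +kernel) (Or.inl (by decide +kernel))⟩

end CfsgLib.PermFreePair
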