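import Cfsg.Agent.Lib.PermFreePair.Criterion

/-!
Transfer of a good pair from a union of cycles to the whole permutation group.
-/

set_option autoImplicit false
open Equiv Equiv.Perm

namespace CfsgLib.PermFreePair

/-- The cycle lengths together with the fixed points. -/
def parts {n : ℕ} (w : Perm (Fin n)) : Multiset ℕ :=
  w.cycleType + Multiset.replicate (n - w.cycleType.sum) 1

theorem sum_parts {n : ℕ} (w : Perm (Fin n)) : (parts w).sum = n := by
  have := w.sum_cycleType_le
  rw [Fintype.card_fin] at this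
  simp [parts]
  omega

theorem filter_parts {n : ℕ} (w : Perm (Fin n)) :
    (parts w).filter (fun a => 2 ≤ a) = w.cycleType := by
  rw [parts, Multiset.filter_add]
  have h1 : w.cycleType.filter (fun a => 2 ≤ a) = w.cycleType :=
    Multiset.filter_eq_self.2 fun a ha => two_le_of_mem_cycleType ha
  have h2 : (Multiset.replicate (n - w.cycleType.sum) 1).filter (fun a => 2 ≤ a) = 0 :=
    Multiset.filter_eq_nil.2 fun a ha => by rw [Multiset.eq_of_mem_replicate ha]; omega
  rw [h1, h2, add_zero]

theorem cycleType_sumCongr {α β : Type*} [Fintype α] [Fintype β] [DecidableEq α] [DecidableEq β]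
    (a : Perm α) (b : Perm β) : (Perm.sumCongr a b).cycleType = a.cycleType + b.cycleType := by
  have h1 : Perm.sumCongr a (1 : Perm β) =
      a.extendDomain (Equiv.ofInjective Sum.inl Sum.inl_injective : α ≃ Set.range (Sum.inl : α → α ⊕ β)) := by
    refine Equiv.ext fun x => ?_
    rcases x with x | x
    · rw [show (Sum.inl x : α ⊕ β) = ((Equiv.ofInjective (Sum.inl : α → α ⊕ β) Sum.inl_injective) x : α ⊕ β) from rfl,
        extendDomain_apply_image]
      rfl
    · rw [extendDomain_apply_not_subtype]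
      · rfl
      · simp
  have h2 : Perm.sumCongr (1 : Perm α) b =
      b.extendDomain (Equiv.ofInjective Sum.inr Sum.inr_injective : β ≃ Set.range (Sum.inr : β → α ⊕ β)) := by
    refine Equiv.ext fun x => ?_
    rcases x with x | x
    · rw [extendDomain_apply_not_subtype]
      · rfl
      · simp
    · rw [show (Sum.inr x : α ⊕ β) = ((Equiv.ofInjective (Sum.inr : β → α ⊕ β) Sum.inr_injective) x : α ⊕ β) from rfl,
        extendDomain_apply_image]
      rfl
  have hd : Disjoint (Perm.sumCongr a (1 : Perm β)) (Perm.sumCongr (1 : Perm α) b) := by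
    intro x
    rcases x with x | x
    · right; rfl
    · left; rfl
  have h : Perm.sumCongr a b = Perm.sumCongr a (1 : Perm β) * Perm.sumCongr (1 : Perm α) b := by
    rw [Perm.sumCongr_mul, mul_one, one_mul]
  rw [h, hd.cycleType_mul, h1, h2, cycleType_extendDomain, cycleType_extendDomain]

/-- Permutations of `q + r` points preserving the first `q`. -/
def glue (q r : ℕ) : Perm (Fin q) × Perm (Fin r) →* Perm (Fin (q + r)) :=
  (finSumFinEquiv.permCongrHom).toMonoidHom.comp (sumCongrHom (Fin q) (Fin r))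

theorem glue_injective (q r : ℕ) : Function.Injective (glue q r) :=
  (finSumFinEquiv.permCongrHom).injective.comp sumCongrHom_injective

theorem sign_glue {q r : ℕ} (a : Perm (Fin q)) (b : Perm (Fin r)) :
    sign (glue q r (a, b)) = sign a * sign b := by
  show sign (finSumFinEquiv.permCongr (Perm.sumCongr a b)) = _
  rw [sign_permCongr, sign_sumCongr]

theorem cycleType_permCongr {α β : Type*} [Fintype α] [Fintype β] [DecidableEq α] [DecidableEq β]
    (e : α ≃ β) (a : Perm α) : (e.permCongr a).cycleType = a.cycleType := by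
  have h : e.permCongr a = a.extendDomain (e.trans (Equiv.subtypeUnivEquiv (p := fun _ : β => True)
      (fun _ => trivial)).symm) := by
    refine Equiv.ext fun x => ?_
    rw [extendDomain_apply_subtype _ _ trivial]
    rfl
  rw [h, cycleType_extendDomain]

theorem cycleType_glue {q r : ℕ} (a : Perm (Fin q)) (b : Perm (Fin r)) :
    (glue q r (a, b)).cycleType = a.cycleType + b.cycleType := by
  show (finSumFinEquiv.permCongr (Perm.sumCongr a b)).cycleType = _
  rw [cycleType_permCongr, cycleType_sumCongr]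

theorem exists_model {q r : ℕ} (w : Perm (Fin (q + r))) (S : Multiset ℕ) (hS : S ≤ parts w)
    (hsum : S.sum = q) :
    ∃ w1 : Perm (Fin r), ∀ w0 : Perm (Fin q), w0.cycleType = S.filter (fun a => 2 ≤ a) →
      ∃ g : Perm (Fin (q + r)), g * w * g⁻¹ = glue q r (w0, w1) := by
  set T := parts w - S with hT
  have hST : S + T = parts w := add_tsub_cancel_of_le hS
  have hTsum : T.sum = r := by
    have := sum_parts w
    rw [← hST, Multiset.sum_add, hsum] at this
    omega
  have hle : (T.filter fun a => 2 ≤ a).sum ≤ r := by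
    have h := congrArg Multiset.sum (Multiset.filter_add_not (fun a => 2 ≤ a) T)
    rw [Multiset.sum_add] at h
    omega
  obtain ⟨w1, hw1⟩ : ∃ w1 : Perm (Fin r), w1.cycleType = T.filter fun a => 2 ≤ a :=
    (exists_with_cycleType_iff (Fin r)).2
      ⟨by rwa [Fintype.card_fin], fun a ha => (Multiset.mem_filter.1 ha).2⟩
  refine ⟨w1, fun w0 hw0 => ?_⟩
  have : IsConj w (glue q r (w0, w1)) := by
    rw [isConj_iff_cycleType_eq, cycleType_glue, hw0, hw1, ← Multiset.filter_add, hST, filter_parts]
  exact isConj_iff.1 this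

theorem not_solvable_of_hom {G G' : Type*} [Group G] [Group G'] (f : G →* G') (a b : G)
    (h : ¬ Group.IsSolvable ↥(Subgroup.closure ({f a, f b} : Set G'))) :
    ¬ Group.IsSolvable ↥(Subgroup.closure ({a, b} : Set G)) := by
  intro hs
  apply h
  have e : (Subgroup.closure ({a, b} : Set G)).map f = Subgroup.closure ({f a, f b} : Set G') := by
    rw [MonoidHom.map_closure, Set.image_pair]
  rw [← e]
  exact Group.isSolvable_of_surjective (MonoidHom.subgroupMap_surjective f _)

theorem not_solvable_map {G G' : Type*} [Group G] [Group G'] (f : G →* G')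
    (hf : Function.Injective f) (a b : G)
    (h : ¬ Group.IsSolvable ↥(Subgroup.closure ({a, b} : Set G))) :
    ¬ Group.IsSolvable ↥(Subgroup.closure ({f a, f b} : Set G')) := by
  intro hs
  apply h
  have e : (Subgroup.closure ({a, b} : Set G)).map f = Subgroup.closure ({f a, f b} : Set G') := by
    rw [MonoidHom.map_closure, Set.image_pair]
  rw [← e] at hs
  exact Group.isSolvable_of_isSolvable_injective (f := ((Subgroup.closure ({a, b} : Set G)).equivMapOfInjective f hf).toMonoidHom)
    (MulEquiv.injective _)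

theorem Good.glue {p q r : ℕ} {a b : Perm (Fin q)} (h : Good p a b) (a1 b1 : Perm (Fin r)) :
    Good p (glue q r (a, a1)) (glue q r (b, b1)) := by
  refine ⟨fun k hk => h.1 k ?_, not_solvable_map _ (glue_injective q r) _ _ ?_⟩
  · have := congrArg Prod.fst
      (glue_injective q r (show CfsgLib.PermFreePair.glue q r (((a, a1) * (b, b1)) ^ p ^ k) =
        CfsgLib.PermFreePair.glue q r 1 by rw [map_pow, map_mul, map_one, hk]))
    simpa using this
  · exact not_solvable_of_hom (MonoidHom.fst (Perm (Fin q)) (Perm (Fin r))) _ _ h.2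

theorem Good.symm {p : ℕ} {α : Type*} {a b : Perm α} (h : Good p a b) : Good p b a := by
  refine ⟨fun k hk => h.1 k ?_, ?_⟩
  · have e : a * b = b⁻¹ * (b * a) * b⁻¹⁻¹ := by group
    rw [e, conj_pow, hk, mul_one, mul_inv_cancel]
  · rw [Set.pair_comm]
    exact h.2

theorem Good.conj {p : ℕ} {α : Type*} {a b : Perm α} (h : Good p a b) (g : Perm α) :
    Good p (g * a * g⁻¹) (g * b * g⁻¹) := by
  refine ⟨fun k hk => h.1 k ?_, ?_⟩
  · have e : g * a * g⁻¹ * (g * b * g⁻¹) = g * (a * b) * g⁻¹ := by group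
    rw [e, conj_pow] at hk
    calc (a * b) ^ p ^ k = g⁻¹ * (g * (a * b) ^ p ^ k * g⁻¹) * g := by group
      _ = 1 := by rw [hk]; group
  · exact not_solvable_map (MulAut.conj g).toMonoidHom (MulEquiv.injective _) a b h.2

theorem exists_conj_of_model {p n q : ℕ} (hqn : q ≤ n) (u w : Perm (Fin n)) (Su Sw : Multiset ℕ)
    (hu : Su ≤ parts u) (hw : Sw ≤ parts w) (hus : Su.sum = q) (hws : Sw.sum = q)
    {a b : Perm (Fin q)} (ha : a.cycleType = Su.filter (fun x => 2 ≤ x))
    (hb : b.cycleType = Sw.filter (fun x => 2 ≤ x)) :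
    (Good p a b → ∃ g : Perm (Fin n), Good p u (g * w * g⁻¹)) ∧
    ((∀ ε : ℤˣ, ∃ σ : Perm (Fin q), sign σ = ε ∧ Good p a (σ * b * σ⁻¹)) →
      ∀ ε : ℤˣ, ∃ g : Perm (Fin n), sign g = ε ∧ Good p u (g * w * g⁻¹)) := by
  obtain ⟨r, rfl⟩ := Nat.exists_eq_add_of_le hqn
  obtain ⟨u1, hu1⟩ := exists_model u Su hu hus
  obtain ⟨w1, hw1⟩ := exists_model w Sw hw hws
  obtain ⟨gu, hgu⟩ := hu1 a ha
  obtain ⟨gw, hgw⟩ := hw1 b hb
  have key : ∀ (σ : Perm (Fin q)), Good p a (σ * b * σ⁻¹) →
      Good p u ((gu⁻¹ * CfsgLib.PermFreePair.glue q r (σ, 1) * gw) * w *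
        (gu⁻¹ * CfsgLib.PermFreePair.glue q r (σ, 1) * gw)⁻¹) := by
    intro σ hg
    have h := (hg.glue u1 w1).conj gu⁻¹
    have eu : gu⁻¹ * CfsgLib.PermFreePair.glue q r (a, u1) * gu⁻¹⁻¹ = u := by rw [← hgu]; group
    have ew : gu⁻¹ * CfsgLib.PermFreePair.glue q r (σ * b * σ⁻¹, w1) * gu⁻¹⁻¹ =
        (gu⁻¹ * CfsgLib.PermFreePair.glue q r (σ, 1) * gw) * w *
        (gu⁻¹ * CfsgLib.PermFreePair.glue q r (σ, 1) * gw)⁻¹ := by
      have e : ((σ * b * σ⁻¹, w1) : Perm (Fin q) × Perm (Fin r)) = (σ, 1) * (b, w1) * (σ, 1)⁻¹ := by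
        simp
      rw [e, map_mul, map_mul, map_inv, ← hgw]
      group
    rwa [eu, ew] at h
  constructor
  · intro hg
    exact ⟨_, key 1 (by simpa using hg)⟩
  · intro hσ ε
    obtain ⟨σ, hσε, hg⟩ := hσ (sign gu * ε * sign gw)
    refine ⟨_, ?_, key σ hg⟩
    rw [map_mul, map_mul, map_inv, sign_glue, map_one, mul_one, hσε]
    rcases Int.units_eq_one_or (sign gu) with e1 | e1 <;>
      rcases Int.units_eq_one_or (sign gw) with e2 | e2 <;>
      rw [e1, e2] <;> simp

end CfsgLib.PermFreePair
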